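import Groth.Agent.CurveRR.Zero
import Groth.Agent.W7Strat.Frame
import Groth.Agent.W7Slope.Twist
import Groth.Agent.PBundle.TopPower
import Groth.Agent.C1Cap.PullGen
import Groth.Agent.TMul.Power
import Groth.Prelude.Def_ExtPow2

/-!
Determinant data of a locally free module: frames together with generators of a candidate determinant,
transforming by determinants.  Exterior powers give such data; they pull back and can be twisted.
-/

set_option autoImplicit false
set_option backward.isDefEq.respectTransparency false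
set_option linter.style.haveILetI false

universe u

open CategoryTheory CategoryTheory.Limits AlgebraicGeometry TopologicalSpace Opposite
open Groth.Agent.QC (res resO res_res res_self res_smul app_res section_eq_of_locally)
open Groth.Agent.WeakAssLib (mgerm mgerm_smul mgerm_res)
open TMul (IsFrame IsGen tm)

noncomputable section

namespace Groth.Agent.DetDeg

variable {X Y : Scheme.{u}} {n : ℕ} {E L : X.Modules}

/-- A frame with a generator. -/
structure Chart (n : ℕ) (E L : X.Modules) : Type u where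
  /-- the open -/
  U : X.Opens
  /-- the frame -/
  e : Fin n → Γ(E, U)
  /-- the generator -/
  l : Γ(L, U)
  frame : IsFrame e
  gen : IsGen l

/-- The generators change by the determinant of the change of frame. -/
def Compat (c d : Chart n E L) : Prop :=
  ∀ (x : X) (hc : x ∈ c.U) (hd : x ∈ d.U) (M : Matrix (Fin n) (Fin n) (X.presheaf.stalk x)),
    (∀ i, mgerm E hd (d.e i) = ∑ j, M i j • mgerm E hc (c.e j)) → mgerm L hd d.l = M.det • mgerm L hc c.l

/-- `L` is a determinant of `E`. -/
def HasDet (n : ℕ) (E L : X.Modules) : Prop :=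
  ∃ (ι : Type u) (C : ι → Chart n E L), (∀ x, ∃ i, x ∈ (C i).U) ∧ ∀ i j, Compat (C i) (C j)

lemma germ_det {W : X.Opens} {x : X} (hx : x ∈ W) (m : Matrix (Fin n) (Fin n) Γ(X, W)) :
    (X.presheaf.germ W x hx).hom m.det =
      (Matrix.of fun i j => (X.presheaf.germ W x hx).hom (m i j)).det :=
  RingHom.map_det _ m

/-- The compatibility on sections. -/
theorem Compat.sec {c d : Chart n E L} (h : Compat c d) {W : X.Opens} (hc : W ≤ c.U) (hd : W ≤ d.U)
    (m : Matrix (Fin n) (Fin n) Γ(X, W)) (hm : ∀ i, res E hd (d.e i) = ∑ j, m i j • res E hc (c.e j)) :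
    res L hd d.l = m.det • res L hc c.l := by
  refine sub_eq_zero.1 (WeakAssLib.ext_germ L (U := W) _ fun x hx => ?_)
  rw [map_sub, sub_eq_zero, mgerm_smul, mgerm_res, mgerm_res, germ_det]
  refine h x (hc hx) (hd hx) _ fun i => ?_
  have h1 := congrArg (mgerm E hx) (hm i)
  rw [mgerm_res, TMul.germ_comb hc hx] at h1
  exact h1

/-- A germwise change of frame comes from a change of frame on sections. -/
theorem exists_change (c d : Chart n E L) {W : X.Opens} (hc : W ≤ c.U) (hd : W ≤ d.U) :
    ∃ m : Matrix (Fin n) (Fin n) Γ(X, W), (∀ i, res E hd (d.e i) = ∑ j, m i j • res E hc (c.e j)) ∧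
      ∀ (x : X) (hx : x ∈ W) (M : Matrix (Fin n) (Fin n) (X.presheaf.stalk x)),
        (∀ i, mgerm E (hd hx) (d.e i) = ∑ j, M i j • mgerm E (hc hx) (c.e j)) →
          M = Matrix.of fun i j => (X.presheaf.germ W x hx).hom (m i j) := by
  choose m hm using fun i => c.frame.comb_surjective hc (res E hd (d.e i))
  refine ⟨Matrix.of m, fun i => (hm i).symm, fun x hx M hM => ?_⟩
  funext i
  refine (c.frame x (hc hx)).1 ?_
  show ∑ j, M i j • _ = ∑ j, (X.presheaf.germ W x hx).hom (m i j) • _
  have h1 := congrArg (mgerm E hx) (hm i)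
  rw [mgerm_res, TMul.germ_comb hc hx] at h1
  exact (hM i).symm.trans h1.symm

/-- An exterior power is a determinant. -/
theorem hasDet_of_isExtPow (hE : FlatMod.IsFinLocFreeOfRank n E) (hL : ExtPow.IsExtPow n E L) :
    HasDet n E L := by
  classical
  obtain ⟨φ, hφ⟩ := hL
  let b : ∀ {U V : X.Opens} (e : Fin n → Γ(E, U)), IsFrame e → V ≤ U →
      Module.Basis (Fin n) Γ(X, V) (E.val.obj (op V)) := fun e he hV =>
    Module.Basis.ofEquivFun (he.equiv hV).symm
  have hb : ∀ {U V : X.Opens} (e : Fin n → Γ(E, U)) (he : IsFrame e) (hV : V ≤ U) (i : Fin n),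
      b e he hV i = res E hV (e i) := fun {U V} e he hV i => by
    simp only [b, Module.Basis.coe_ofEquivFun, LinearEquiv.symm_symm]
    change ∑ j, (Pi.single i (1 : Γ(X, V)) : Fin n → Γ(X, V)) j • res E hV (e j) = _
    rw [Finset.sum_eq_single i]
    · rw [Pi.single_eq_same, one_smul]
    · intro j _ hj
      rw [Pi.single_eq_of_ne hj, zero_smul]
    · simp
  let ι : Type u := Σ' (U : X.affineOpens) (e : Fin n → Γ(E, U.1)), PLift (IsFrame e)
  let l : ∀ p : ι, Γ(L, p.1.1) := fun p => (φ p.1).symm (exteriorPower.ιMulti _ n p.2.1)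
  have hres : ∀ (p : ι) (V : X.affineOpens) (h : V.1 ≤ p.1.1),
      res L h (l p) = (φ V).symm (exteriorPower.ιMulti _ n fun i => res E h (p.2.1 i)) := fun p V h =>
    hφ p.1 V h p.2.1
  have hgen : ∀ p : ι, IsGen (l p) := fun p => PBundle.isGen_of_affine fun V hV h => by
    have h1 := PBundle.bijective_smul_ιMulti (b p.2.1 p.2.2.down h)
    rw [show (⇑(b p.2.1 p.2.2.down h) : Fin n → E.val.obj (op V)) = _ from
      funext (hb p.2.1 p.2.2.down h)] at h1
    have e : (fun a : Γ(X, V) => a • res L h (l p)) =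
        (φ ⟨V, hV⟩).symm ∘ fun a => a • exteriorPower.ιMulti _ n (fun i => res E h (p.2.1 i)) := by
      funext a
      rw [hres p ⟨V, hV⟩ h]
      exact ((φ ⟨V, hV⟩).symm.map_smul a _).symm
    rw [e]
    exact (φ ⟨V, hV⟩).symm.bijective.comp h1
  let C : ι → Chart n E L := fun p => ⟨p.1.1, p.2.1, l p, p.2.2.down, hgen p⟩
  refine ⟨ι, C, fun x => ?_, fun p q x hc hd M hM => ?_⟩
  · obtain ⟨U, e, hxU, he⟩ := CurveRR.exists_frame hE x
    obtain ⟨D, hD, hxD, hDU⟩ := exists_isAffineOpen_mem_and_subset (X := X) (x := x) (U := U) hxU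
    exact ⟨⟨⟨D, hD⟩, fun i => res E hDU (e i), ⟨W7Strat.isFrame_res he hDU⟩⟩, hxD⟩
  · obtain ⟨W, hW, hxW, hWle⟩ := exists_isAffineOpen_mem_and_subset (X := X) (x := x)
      (U := p.1.1 ⊓ q.1.1) ⟨hc, hd⟩
    have hWp : W ≤ p.1.1 := hWle.trans inf_le_left
    have hWq : W ≤ q.1.1 := hWle.trans inf_le_right
    obtain ⟨m, hm, hM'⟩ := exists_change (C p) (C q) (W := W) hWp hWq
    have hdet : (b p.2.1 p.2.2.down hWp).det (fun i => res E hWq (q.2.1 i)) = m.det := by
      rw [Module.Basis.det_apply, ← Matrix.det_transpose]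
      congr 1
      ext i j
      rw [Matrix.transpose_apply, Module.Basis.toMatrix_apply]
      have h1 : (res E hWq (q.2.1 i) : E.val.obj (op W)) =
          ∑ k, m i k • b p.2.1 p.2.2.down hWp k := by
        simp only [hb]
        exact hm i
      rw [h1, Module.Basis.repr_sum_self]
    have hl : res L hWq (l q) = m.det • res L hWp (l p) := by
      rw [hres q ⟨W, hW⟩ hWq, hres p ⟨W, hW⟩ hWp, PBundle.ιMulti_eq_det_smul (b p.2.1 p.2.2.down hWp), hdet,
        show (⇑(b p.2.1 p.2.2.down hWp) : Fin n → E.val.obj (op W)) = _ from funext (hb p.2.1 p.2.2.down hWp)]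
      exact (φ ⟨W, hW⟩).symm.map_smul _ _
    have h2 := congrArg (mgerm L hxW) hl
    rw [mgerm_smul, mgerm_res, mgerm_res, germ_det, ← hM' x hxW M hM] at h2
    exact h2

/-- The inverse image of a chart. -/
def Chart.pull (f : X ⟶ Y) {E L : Y.Modules} (c : Chart n E L) :
    Chart n ((Scheme.Modules.pullback f).obj E) ((Scheme.Modules.pullback f).obj L) where
  U := f ⁻¹ᵁ c.U
  e i := ((Scheme.Modules.pullbackPushforwardAdjunction f).unit.app E).app c.U (c.e i)
  l := ProjMor.eta f L c.U c.l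
  frame := c.frame.pullback f
  gen := C1Cap.isGen_eta f c.gen

open Groth.Agent.KFlat (kap kap_germ kap_smul) in
/-- Determinants pull back. -/
theorem HasDet.pullback (f : X ⟶ Y) {E L : Y.Modules} (h : HasDet n E L) :
    HasDet n ((Scheme.Modules.pullback f).obj E) ((Scheme.Modules.pullback f).obj L) := by
  obtain ⟨ι, C, hcov, hcomp⟩ := h
  refine ⟨ι, fun i => (C i).pull f, fun x => hcov (f x), fun p q x hc hd M hM => ?_⟩
  obtain ⟨M₀, hM₀⟩ : ∃ M₀ : Matrix (Fin n) (Fin n) (Y.presheaf.stalk (f x)),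
      ∀ i, mgerm E (show f x ∈ (C q).U from hd) ((C q).e i) =
        ∑ j, M₀ i j • mgerm E (show f x ∈ (C p).U from hc) ((C p).e j) := by
    choose M₀ hM₀ using fun i => ((C p).frame (f x) hc).2 (mgerm E (show f x ∈ (C q).U from hd) ((C q).e i))
    exact ⟨Matrix.of M₀, fun i => (hM₀ i).symm⟩
  have hk : ∀ i, mgerm ((Scheme.Modules.pullback f).obj E) hd (((C q).pull f).e i) =
      ∑ j, (f.stalkMap x).hom (M₀ i j) • mgerm ((Scheme.Modules.pullback f).obj E) hc (((C p).pull f).e j) :=
    fun i => by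
    have h1 := congrArg (kap f x E) (hM₀ i)
    rw [map_sum] at h1
    refine ((kap_germ f x E _ hd _).symm.trans h1).trans (Finset.sum_congr rfl fun j _ => ?_)
    rw [kap_smul]
    exact congrArg _ (kap_germ f x E _ hc _)
  have hMe : M = Matrix.of fun i j => (f.stalkMap x).hom (M₀ i j) := by
    funext i
    exact (((C p).pull f).frame x hc).1 ((hM i).symm.trans (hk i))
  have h2 := congrArg (kap f x L) (hcomp p q (f x) hc hd M₀ hM₀)
  rw [kap_smul, C1Cap.kap_mgerm, C1Cap.kap_mgerm, RingHom.map_det] at h2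
  rw [hMe]
  exact h2

lemma comb_tm {B : X.Modules} {W : X.Opens} (s : Fin n → Γ(E, W)) (b : Γ(B, W)) (a : Fin n → Γ(X, W)) (u : Γ(X, W)) :
    tm (∑ j, a j • s j) (u • b) = ∑ j, (u * a j) • tm (s j) b := by
  rw [TMul.tm_smul]
  induction (Finset.univ : Finset (Fin n)) using Finset.induction_on with
  | empty => simp [TMul.zero_tm]
  | insert a s ha ih =>
    rw [Finset.sum_insert ha, Finset.sum_insert ha, TMul.tm_add, smul_add, ih, TMul.smul_tm, smul_smul]

/-- A twisted chart. -/
def Chart.twist (c : Chart n E L) {B : X.Modules} {D : X.Opens} {b : Γ(B, D)} (hb : IsGen b) :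
    Chart n (CohB1.tensorMod E B) (CohB1.tensorMod L (CohB1.tensorPow B n)) where
  U := c.U ⊓ D
  e i := tm (res E inf_le_left (c.e i)) (res B inf_le_right b)
  l := tm (res L inf_le_left c.l) (TMul.pw (res B inf_le_right b) n)
  frame := W7Slope.isFrame_tm (W7Strat.isFrame_res c.frame inf_le_left) (hb.res _)
  gen := TMul.isGen_tm (c.gen.res _) (TMul.isGen_pw (hb.res _) n)

/-- Determinants of twists. -/
theorem HasDet.twist (h : HasDet n E L) {B : X.Modules} (hB : PicF.IsInvertible B) :
    HasDet n (CohB1.tensorMod E B) (CohB1.tensorMod L (CohB1.tensorPow B n)) := by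
  obtain ⟨ι, C, hcov, hcomp⟩ := h
  choose D b hxD hb using TMul.exists_isGen hB
  let C' : ι × X → Chart n (CohB1.tensorMod E B) (CohB1.tensorMod L (CohB1.tensorPow B n)) :=
    fun p => (C p.1).twist (hb p.2)
  refine ⟨ι × X, C', fun x => let ⟨i, hi⟩ := hcov x; ⟨(i, x), hi, hxD x⟩, fun p q x hc hd M hM => ?_⟩
  let W : X.Opens := (C' p).U ⊓ (C' q).U
  have hWp : W ≤ (C' p).U := inf_le_left
  have hWq : W ≤ (C' q).U := inf_le_right
  have hp1 : W ≤ (C p.1).U := hWp.trans inf_le_left
  have hq1 : W ≤ (C q.1).U := hWq.trans inf_le_left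
  obtain ⟨m, hm, -⟩ := exists_change (C p.1) (C q.1) hp1 hq1
  obtain ⟨u, hu⟩ := (hb p.2 W (hWp.trans inf_le_right)).2 (res B (hWq.trans inf_le_right) (b q.2))
  replace hu : u • res B (hWp.trans inf_le_right) (b p.2) = res B (hWq.trans inf_le_right) (b q.2) := hu
  have he : ∀ i, res (CohB1.tensorMod E B) hWq ((C' q).e i) =
      ∑ j, (u • m) i j • res (CohB1.tensorMod E B) hWp ((C' p).e j) := fun i => by
    simp only [C', Chart.twist, TMul.res_tm, res_res]
    rw [hm i, ← hu, comb_tm]
    rfl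
  have hl : res (CohB1.tensorMod L (CohB1.tensorPow B n)) hWq (C' q).l =
      (u • m).det • res (CohB1.tensorMod L (CohB1.tensorPow B n)) hWp (C' p).l := by
    simp only [C', Chart.twist, TMul.res_tm, res_res, TMul.res_pw]
    rw [(hcomp p.1 q.1).sec hp1 hq1 m hm, ← hu, TMul.pw_smul, TMul.tm_smul, TMul.smul_tm, smul_smul,
      Matrix.det_smul, Fintype.card_fin]
  have hxW : x ∈ W := ⟨hc, hd⟩
  have hMe : M = Matrix.of fun i j => (X.presheaf.germ W x hxW).hom ((u • m) i j) := by
    funext i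
    refine ((C' p).frame x hc).1 ((hM i).symm.trans ?_)
    have h1 := congrArg (mgerm _ hxW) (he i)
    rw [mgerm_res, TMul.germ_comb hWp hxW] at h1
    exact h1
  have h2 := congrArg (mgerm _ hxW) hl
  rw [mgerm_smul, mgerm_res, mgerm_res, germ_det, ← hMe] at h2
  exact h2

end Groth.Agent.DetDeg
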