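import Groth.Agent.Intersect.Apps2
import Groth.Agent.Intersect.Pos
import Groth.Agent.W7Slope.Basic

/-!
Euler characteristics of torsion modules on a curve are determined by stalk lengths; free modules have degree zero.
-/

set_option autoImplicit false
set_option backward.isDefEq.respectTransparency false
set_option linter.style.haveILetI false
set_option linter.unusedSectionVars false

universe u

open CategoryTheory CategoryTheory.Limits AlgebraicGeometry TopologicalSpace Opposite
open Groth.Agent.CohFinite
open Groth.Agent.CurveRR.Multi (lenAt)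
open Groth.Agent.W7Slope (grk cdeg)

noncomputable section

namespace Groth.Agent.DetDeg

attribute [local instance] Abelian.hasFiniteBiproducts

variable {k : Type u} [Field k] {X : Scheme.{u}} [X.Over (Spec (CommRingCat.of k))]
  [IsProper (X ↘ Spec (CommRingCat.of k))] [IsIntegral X]

omit [X.Over (Spec (CommRingCat.of k))] [IsProper (X ↘ Spec (CommRingCat.of k))] [IsIntegral X] in
theorem dim_nonneg (x : X) : 0 ≤ topologicalKrullDim (closure ({x} : Set X)) := by
  haveI : Nonempty (IrreducibleCloseds (closure ({x} : Set X))) :=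
    ⟨⟨closure {⟨x, subset_closure rfl⟩}, isIrreducible_singleton.closure, isClosed_closure⟩⟩
  exact Order.krullDim_nonneg

variable (k) in
theorem alt_zero (Q : X.Modules) :
    Intersect.alt (Intersect.χt k Q (fun i : Fin 0 => i.elim0)) = (Curv2.euler k X Q : ℚ) := by
  rw [Intersect.alt, Fintype.sum_unique]
  simp only [Finset.univ_eq_empty, Finset.sum_empty, pow_zero, one_mul]
  refine congrArg (fun z : ℤ => (z : ℚ)) ?_
  exact CurveRR.euler_eq_of_iso (TMul.commIso Q (Coh.structureModule X) ≪≫ TMul.leftUnitIso Q)

include k in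
theorem support_dim_le_zero (hdim : topologicalKrullDim X ≤ 1) {Q : X.Modules} (hQ : Coh.IsCoh Q) (h : grk Q = 0) :
    topologicalKrullDim (CohB1.support Q) ≤ 0 := by
  haveI := CurveRR.isNoetherian_of_proper k X
  letI : Field (X.presheaf.stalk (genericPoint X)) := inferInstanceAs (Field X.functionField)
  haveI := RegDual.finite_stalk hQ (genericPoint X)
  exact CurveRR.dim_le_zero_of_closed hdim (Groth.Agent.QC.isClosed_support hQ.2)
    (W7Slope.notMem_support_of_subsingleton (Module.finrank_zero_iff.1 h))

/-- Torsion coherent modules with equal lengths have equal Euler characteristic. -/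
theorem euler_eq_of_lenAt (hdim : topologicalKrullDim X ≤ 1) {P Q : X.Modules} (hP : Coh.IsCoh P)
    (hQ : Coh.IsCoh Q) (hP0 : grk P = 0) (hQ0 : grk Q = 0) (h : ∀ x : X, lenAt P x = lenAt Q x) :
    Curv2.euler k X P = Curv2.euler k X Q := by
  haveI := CurveRR.isNoetherian_of_proper k X
  have hkey : ∀ {F : X.Modules}, Coh.IsCoh F → grk F = 0 →
      ∀ x ∈ CohB1.support F, lenAt F x ≠ 0 ∧ x ∈ Intersect.top (CohB1.support F) 0 := fun {F} hF hF0 x hx => by
    have hd := support_dim_le_zero (k := k) hdim hF hF0
    have hcl := Groth.Agent.QC.isClosed_support hF.2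
    have hmin : ∀ y ∈ CohB1.support F, y ⤳ x → y = x := fun y hy hyx => by
      refine Intersect.eq_of_dim (d := 0) hyx (((Intersect.dim_closure_le hcl hy).trans hd).trans_eq rfl) ?_
      refine le_antisymm (((Intersect.dim_closure_le hcl hx).trans hd).trans_eq rfl) ?_
      exact dim_nonneg x
    refine ⟨?_, hx, ?_⟩
    · have := Intersect.lenAt_one_le (F := F) le_rfl hF hx hmin
      omega
    · refine le_antisymm (((Intersect.dim_closure_le hcl hx).trans hd).trans_eq rfl) ?_
      exact dim_nonneg x
  have hsupp : CohB1.support P = CohB1.support Q := by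
    refine Set.Subset.antisymm (fun x hx => ?_) fun x hx => ?_
    · by_contra hn
      exact (hkey hP hP0 x hx).1 ((h x).trans (CurveRR.Multi.lenAt_eq_zero hn))
    · by_contra hn
      exact (hkey hQ hQ0 x hx).1 ((h x).symm.trans (CurveRR.Multi.lenAt_eq_zero hn))
  have hL : ∀ i : Fin 0, PicF.IsInvertible ((fun i : Fin 0 => (i.elim0 : X.Modules)) i) := fun i => i.elim0
  obtain ⟨T, hT⟩ := Intersect.exists_top_finset (k := k) hP (d := 0)
    ((support_dim_le_zero (k := k) hdim hP hP0).trans_eq rfl)
  have h1 := Intersect.alt_comp k P hP ((support_dim_le_zero (k := k) hdim hP hP0).trans_eq rfl) hL T hT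
  have h2 := Intersect.alt_comp k Q hQ ((support_dim_le_zero (k := k) hdim hQ hQ0).trans_eq rfl) hL T
    (fun ξ => by rw [hT ξ, hsupp])
  simp only [h] at h1
  have h3 := h1.trans h2.symm
  rw [alt_zero k P, alt_zero k Q] at h3
  exact_mod_cast h3

/-- Free modules have degree zero. -/
theorem cdeg_free (hO : cdeg k (Coh.structureModule X) = 0) :
    ∀ n : ℕ, cdeg k (FlatMod.freeMod X n) = 0 := by
  haveI := CurveRR.isNoetherian_of_proper k X
  have hO' : Coh.IsCoh (Coh.structureModule X) := RefStalk.isCoh_structureModule
  intro n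
  induction n with
  | zero =>
    have hz : IsZero (∐ fun _ : Fin 0 => Coh.structureModule X) :=
      (IsZero.iff_id_eq_zero _).mpr (Sigma.hom_ext _ _ fun i => i.elim0)
    let Z := ∐ fun _ : Fin 0 => Coh.structureModule X
    have hS : (ShortComplex.mk (𝟙 Z) (0 : Z ⟶ Z) (by simp)).ShortExact :=
      { exact := ShortComplex.exact_of_isZero_X₂ _ hz, mono_f := inferInstance
        epi_g := ⟨fun _ _ _ => hz.eq_of_src _ _⟩ }
    have hc := CurveRR.isCoh_power (Coh.structureModule X) hO' 0
    have := W7Slope.cdeg_add (k := k) hS hc hc hc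
    change cdeg k Z = cdeg k Z + cdeg k Z at this
    show cdeg k Z = 0
    omega
  | succ d ih =>
    obtain ⟨e⟩ := Horrocks.nonempty_consIso (Coh.structureModule X) (fun _ : Fin d => Coh.structureModule X)
      (fun _ : Fin (d + 1) => Coh.structureModule X) rfl fun _ => rfl
    have := W7Slope.cdeg_add (k := k)
      (ShortComplex.Splitting.ofHasBinaryBiproduct (Coh.structureModule X)
        (∐ fun _ : Fin d => Coh.structureModule X)).shortExact hO'
      (CohFinite.isCoh_of_iso e.symm (CurveRR.isCoh_power _ hO' (d + 1))) (CurveRR.isCoh_power _ hO' d)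
    show cdeg k (∐ fun _ : Fin (d + 1) => Coh.structureModule X) = 0
    rw [← W7Slope.cdeg_iso e]
    change cdeg k (Coh.structureModule X ⊞ ∐ fun _ : Fin d => Coh.structureModule X) = _ at this
    change cdeg k (∐ fun _ : Fin d => Coh.structureModule X) = 0 at ih
    rw [this]
    dsimp only
    omega

theorem cdeg_structure : cdeg k (Coh.structureModule X) = 0 := by
  rw [← W7Slope.deg_eq (CurveRR.isFinLocFreeOfRank_one TMul.isInvertible_structureModule)]
  exact CurveRR.deg_structure

end Groth.Agent.DetDeg
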