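import Groth.Agent.DetDeg.Atlas
import Groth.Agent.DetDeg.Torsion
import Groth.Agent.CycDim.Det
import Groth.Agent.AmpleDimOne.Top
import Groth.Agent.CurveRR.Deg
import Groth.Agent.ZeroSch.Basic

/-!
On an integral proper curve a module with generically independent global sections has the degree of its determinant.
-/

set_option autoImplicit false
set_option backward.isDefEq.respectTransparency false
set_option linter.style.haveILetI false
set_option linter.unusedSectionVars false

universe u

open CategoryTheory CategoryTheory.Limits AlgebraicGeometry TopologicalSpace Opposite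
open Groth.Agent.QC (res resO res_res res_self res_smul app_res section_eq_of_locally)
open Groth.Agent.WeakAssLib (mgerm mgerm_smul mgerm_res stalkHom stalkHom_germ stalkHom_smul)
open TMul (IsFrame IsGen homOf val_homOf)
open Groth.Agent.CurveRR.Multi (lenAt)
open Groth.Agent.W7Slope (grk cdeg)

noncomputable section

namespace Groth.Agent.DetDeg

attribute [local instance] Abelian.hasFiniteBiproducts

variable {X : Scheme.{u}} {n : ℕ} {E L : X.Modules}

theorem isInvertible_of_hasDet [IsIntegral X] [IsLocallyNoetherian X] (h : HasDet n E L) : PicF.IsInvertible L := by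
  obtain ⟨ι, C, hcov, -⟩ := h
  refine ZeroSch.isInvertible_of_rankOne (W7Slope.rank_of_frames fun x => ?_)
  obtain ⟨i, hi⟩ := hcov x
  refine ⟨(C i).U, fun _ => (C i).l, hi, W7Strat.isFrame_of_bijective fun V hV => ?_⟩
  have h1 : (fun c : Fin 1 → Γ(X, V) => ∑ j, c j • res L hV (C i).l) =
      (fun a : Γ(X, V) => a • res L hV (C i).l) ∘ fun c : Fin 1 → Γ(X, V) => c 0 := by
    funext c
    simp
  rw [h1]
  exact ((C i).gen V hV).comp ⟨fun a b hab => funext fun j => by rw [Subsingleton.elim j 0]; exact hab,
    fun a => ⟨fun _ => a, rfl⟩⟩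

/-- The map from a free module given by sections. -/
def fromFree (s : Fin n → Γ(E, ⊤)) : FlatMod.freeMod X n ⟶ E := Sigma.desc fun i => homOf (s i)

theorem fromFree_bv (s : Fin n → Γ(E, ⊤)) (i : Fin n) : (fromFree s).app ⊤ (PBundle.bv X i) = s i := by
  have h2 : Sigma.ι (fun _ : Fin n => Coh.structureModule X) i ≫ fromFree s = homOf (s i) := Sigma.ι_desc _ _
  exact (congrArg (fun φ : Coh.structureModule X ⟶ E => TMul.val φ ⊤) h2).trans
    ((val_homOf _ ⊤).trans (res_self _ _ _))

theorem fromFree_stalk (s : Fin n → Γ(E, ⊤)) {x : X} (c : Fin n → X.presheaf.stalk x) :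
    stalkHom (fromFree s) x (∑ i, c i • mgerm (FlatMod.freeMod X n) (Opens.mem_top x) (PBundle.bv X i)) =
      ∑ i, c i • mgerm E (Opens.mem_top x) (s i) := by
  rw [map_sum]
  exact Finset.sum_congr rfl fun i _ => by rw [stalkHom_smul, stalkHom_germ, fromFree_bv]

/-- The stalk of a cokernel. -/
theorem length_stalk_coker {A B : X.Modules} (φ : A ⟶ B) [Mono φ] (x : X)
    (R : Submodule (X.presheaf.stalk x) (B.presheaf.stalk x)) (hR : ∀ v, v ∈ R ↔ ∃ w, stalkHom φ x w = v) :
    Module.length (X.presheaf.stalk x) ((cokernel φ).presheaf.stalk x) =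
      Module.length (X.presheaf.stalk x) (B.presheaf.stalk x ⧸ R) := by
  have hS : (ShortComplex.mk φ (cokernel.π φ) (cokernel.condition φ)).ShortExact :=
    { exact := ShortComplex.exact_cokernel φ }
  let g : B.presheaf.stalk x →ₗ[X.presheaf.stalk x] (cokernel φ).presheaf.stalk x :=
    ((DerSch.stalkFunctor X x).map (cokernel.π φ)).hom
  have hsurj : Function.Surjective g := (ModuleCat.epi_iff_surjective _).1
    (inferInstance : Epi ((DerSch.stalkFunctor X x).map (cokernel.π φ)))
  have hker : LinearMap.ker g = R := by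
    ext v
    rw [LinearMap.mem_ker, hR]
    constructor
    · intro hv
      exact WeakAssLib.stalk_exact _ hS x v hv
    · rintro ⟨w, rfl⟩
      obtain ⟨W, hW, a, rfl⟩ := A.presheaf.exists_germ_eq (x := x) w
      show stalkHom (cokernel.π φ) x (stalkHom φ x (mgerm A hW a)) = 0
      rw [stalkHom_germ, stalkHom_germ,
        show (cokernel.π φ).app W (φ.app W a) = (φ ≫ cokernel.π φ).app W a from rfl, cokernel.condition]
      exact map_zero _
  rw [← hker]
  exact (g.quotKerEquivOfSurjective hsurj).length_eq.symm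

variable [IsIntegral X]

theorem germ_generic_injective {U : X.Opens} (hη : genericPoint X ∈ U) :
    Function.Injective (X.presheaf.germ U (genericPoint X) hη).hom := germ_injective_of_isIntegral X _ hη

variable (s : Fin n → Γ(E, ⊤))
  (hs : Function.Injective fun c : Fin n → X.presheaf.stalk (genericPoint X) =>
    ∑ i, c i • mgerm E (Opens.mem_top (genericPoint X)) (s i))

include hs in
theorem mono_fromFree : Mono (fromFree s) := by
  refine (Groth.Agent.QC.mono_iff_app_injective (fromFree s)).2 fun V => (injective_iff_map_eq_zero _).2 fun v hv => ?_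
  obtain ⟨c, hc⟩ := (PBundle.isFrame_bv X n).comb_surjective (le_top : V ≤ ⊤) v
  refine section_eq_of_locally fun x hx => ⟨V, le_rfl, hx, ?_⟩
  rw [res_self, map_zero]
  have hη : genericPoint X ∈ V := (genericPoint_specializes x).mem_open V.2 hx
  have h1 := congrArg (mgerm E hη) hv
  rw [← stalkHom_germ, ← hc, TMul.germ_comb (le_top : V ≤ ⊤) hη, fromFree_stalk, map_zero] at h1
  have h2 : (fun i => (X.presheaf.germ V (genericPoint X) hη).hom (c i)) = 0 := hs (h1.trans (by simp))
  have h3 : c = 0 := funext fun i => germ_generic_injective hη ((congrFun h2 i).trans (map_zero _).symm)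
  rw [← hc, h3]
  simp

include hs in
theorem det_ne_zero (c : Chart n E L) (hη : genericPoint X ∈ c.U)
    (P : Matrix (Fin n) (Fin n) Γ(X, c.U)) (hP : ∀ i, res E le_top (s i) = ∑ j, P i j • res E le_rfl (c.e j)) :
    P.det ≠ 0 := by
  intro h0
  let η := genericPoint X
  letI : Field (X.presheaf.stalk η) := inferInstanceAs (Field X.functionField)
  let Q : Matrix (Fin n) (Fin n) (X.presheaf.stalk η) := Matrix.of fun i j => (X.presheaf.germ c.U η hη).hom (P i j)
  have hdet : Q.det = 0 := by rw [← germ_det hη P, h0, map_zero]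
  obtain ⟨v, hv, hvQ⟩ := Matrix.exists_vecMul_eq_zero_iff.2 hdet
  refine hv (hs ?_)
  have hsi : ∀ i, mgerm E (Opens.mem_top η) (s i) = ∑ j, Q i j • mgerm E hη (c.e j) := fun i => by
    have h1 := congrArg (mgerm E hη) (hP i)
    rw [mgerm_res, TMul.germ_comb le_rfl hη] at h1
    exact h1
  show ∑ i, v i • mgerm E (Opens.mem_top η) (s i) = ∑ i, (0 : Fin n → X.presheaf.stalk η) i • _
  simp only [Pi.zero_apply, zero_smul, Finset.sum_const_zero, hsi, Finset.smul_sum, smul_smul]
  rw [Finset.sum_comm]
  refine Finset.sum_eq_zero fun j _ => ?_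
  rw [← Finset.sum_smul]
  have := congrFun hvQ j
  simp only [Matrix.vecMul, dotProduct, Pi.zero_apply] at this
  rw [this, zero_smul]

omit [IsIntegral X] in
/-- The determinants of the coefficient matrices of sections glue. -/
theorem exists_det_section {ι : Type u} (C : ι → Chart n E L) (hcov : ∀ x, ∃ i, x ∈ (C i).U)
    (hcomp : ∀ i j, Compat (C i) (C j)) (M : ∀ i, Matrix (Fin n) (Fin n) Γ(X, (C i).U))
    (hM : ∀ i a, res E le_top (s a) = ∑ b, M i a b • res E le_rfl ((C i).e b)) :
    ∃ σ : Γ(L, ⊤), ∀ i, res L (le_top : (C i).U ≤ ⊤) σ = (M i).det • (C i).l := by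
  obtain ⟨σ, hσ⟩ := ZCl.glue L (fun i => (C i).U) (V := ⊤) (fun _ => le_top) (fun x _ => hcov x)
    (fun i => (M i).det • (C i).l) (fun i j => by
      let W : X.Opens := (C i).U ⊓ (C j).U
      obtain ⟨m, hm, -⟩ := exists_change (C i) (C j) (W := W) inf_le_left inf_le_right
      change res L (inf_le_left : W ≤ _) ((M i).det • (C i).l) = res L (inf_le_right : W ≤ _) ((M j).det • (C j).l)
      rw [res_smul, res_smul, (hcomp i j).sec inf_le_left inf_le_right m hm, smul_smul]
      refine congrArg (· • _) ?_
      rw [RingHom.map_det, RingHom.map_det, ← Matrix.det_mul]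
      refine congrArg Matrix.det (funext fun a => (C i).frame.comb_injective (inf_le_left : W ≤ _) ?_)
      have e1 := congrArg (res E (inf_le_left : W ≤ (C i).U)) (hM i a)
      have e2 := congrArg (res E (inf_le_right : W ≤ (C j).U)) (hM j a)
      simp only [map_sum, res_smul, res_res] at e1 e2
      refine (e1.symm.trans (e2.trans ?_))
      show ∑ b, resO X inf_le_right (M j a b) • res E _ ((C j).e b) = _
      rw [Finset.sum_congr rfl fun b _ => congrArg (fun w => resO X (inf_le_right : W ≤ (C j).U) (M j a b) • w) (hm b)]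
      simp only [Finset.smul_sum, smul_smul]
      rw [Finset.sum_comm]
      refine Finset.sum_congr rfl fun b _ => ?_
      rw [Matrix.mul_apply, Finset.sum_smul]
      exact Finset.sum_congr rfl fun _ _ => rfl)
  exact ⟨σ, hσ⟩

variable {k : Type u} [Field k] [X.Over (Spec (CommRingCat.of k))] [IsProper (X ↘ Spec (CommRingCat.of k))]

include hs in
/-- The degree of a module with generically independent sections is the degree of its determinant. -/
theorem deg_eq_of_sections (hdim : topologicalKrullDim X ≤ 1) (hE : FlatMod.IsFinLocFreeOfRank n E)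
    (hd : HasDet n E L) : Curv2.deg k X E n = Curv2.deg k X L 1 := by
  haveI := CurveRR.isNoetherian_of_proper k X
  have hL := isInvertible_of_hasDet hd
  obtain ⟨ι, C, hcov, hcomp⟩ := hd
  let η := genericPoint X
  letI : Field (X.presheaf.stalk η) := inferInstanceAs (Field X.functionField)
  choose P hP using fun (i : ι) (a : Fin n) => (C i).frame.comb_surjective le_rfl (res E le_top (s a))
  let M : ∀ i, Matrix (Fin n) (Fin n) Γ(X, (C i).U) := fun i => Matrix.of (P i)
  have hM : ∀ i a, res E le_top (s a) = ∑ b, M i a b • res E le_rfl ((C i).e b) := fun i a => (hP i a).symm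
  obtain ⟨σ, hσ⟩ := exists_det_section s C hcov hcomp M hM
  obtain ⟨i₀, hi₀⟩ := hcov η
  have hne : ∀ i, η ∈ (C i).U → (M i).det ≠ 0 := fun i hi => det_ne_zero s hs (C i) hi (M i) (hM i)
  have hηi : ∀ i (x : X), x ∈ (C i).U → η ∈ (C i).U := fun i x hx =>
    (genericPoint_specializes x).mem_open (C i).U.2 hx
  have hσ0 : homOf σ ≠ 0 := fun h0 => by
    have h1 : res L (le_top : (C i₀).U ≤ ⊤) σ = 0 :=
      (val_homOf σ (C i₀).U).symm.trans (congrArg (fun φ => TMul.val φ (C i₀).U) h0)
    rw [show res L le_top σ = (M i₀).det • (C i₀).l from hσ i₀] at h1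
    refine hne i₀ hi₀ ((((C i₀).gen (C i₀).U le_rfl).1 (a₁ := (M i₀).det) (a₂ := 0) ?_))
    show (M i₀).det • res L le_rfl (C i₀).l = (0 : Γ(X, (C i₀).U)) • res L le_rfl (C i₀).l
    rw [res_self, zero_smul]
    exact h1
  haveI := mono_fromFree s hs
  haveI := CurveRR.mono_of_ne_zero TMul.isInvertible_structureModule hL (homOf σ) hσ0
  have hEc := CurveRR.isCoh_of_rank hE
  have hLc := CurveRR.isCoh_of_inv hL
  have hF : Coh.IsCoh (FlatMod.freeMod X n) := CurveRR.isCoh_power _ RefStalk.isCoh_structureModule n
  let Q := cokernel (fromFree s)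
  let Q' := cokernel (homOf σ)
  have hQ : Coh.IsCoh Q := Groth.Agent.QC.isCoh_cokernel hF.1 hEc _
  have hQ' : Coh.IsCoh Q' := Groth.Agent.QC.isCoh_cokernel RefStalk.isCoh_structureModule.1 hLc _
  have hSE : (ShortComplex.mk (fromFree s) (cokernel.π _) (cokernel.condition _)).ShortExact :=
    { exact := ShortComplex.exact_cokernel _ }
  have hSL : (ShortComplex.mk (homOf σ) (cokernel.π _) (cokernel.condition _)).ShortExact :=
    { exact := ShortComplex.exact_cokernel _ }
  have hlen : ∀ x : X, Module.length (X.presheaf.stalk x) (Q.presheaf.stalk x) =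
      Module.length (X.presheaf.stalk x) (Q'.presheaf.stalk x) := fun x => by
    obtain ⟨i, hi⟩ := hcov x
    let A := X.presheaf.stalk x
    let N : Matrix (Fin n) (Fin n) A := Matrix.of fun a b => (X.presheaf.germ (C i).U x hi).hom (M i a b)
    have hdetN : N.det = (X.presheaf.germ (C i).U x hi).hom (M i).det := (germ_det hi (M i)).symm
    have hN0 : N.det ≠ 0 := by
      rw [hdetN]
      intro h0
      have h1 := congrArg (X.presheaf.stalkSpecializes (genericPoint_specializes x)).hom h0
      rw [map_zero] at h1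
      refine hne i (hηi i x hi) (germ_generic_injective (hηi i x hi) (Eq.trans ?_ (map_zero _).symm))
      exact (congr($(TopCat.Presheaf.germ_stalkSpecializes X.presheaf hi (genericPoint_specializes x)).hom
        (M i).det)).symm.trans h1
    haveI : Ring.KrullDimLE 1 A := Ring.krullDimLE_iff.2 (AmpleDimOne.ringKrullDim_stalk_le hdim x)
    have hsx : ∀ a, mgerm E (Opens.mem_top x) (s a) = ∑ b, N a b • mgerm E hi ((C i).e b) := fun a => by
      have h1 := congrArg (mgerm E hi) (hM i a)
      rw [mgerm_res, TMul.germ_comb le_rfl hi] at h1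
      exact h1
    let φ := Fintype.linearCombination A fun b => mgerm E hi ((C i).e b)
    have hφ : Function.Bijective φ := by
      convert (C i).frame x hi using 1
      funext c
      exact Fintype.linearCombination_apply _ _ _
    let e := LinearEquiv.ofBijective φ hφ
    let ψ := Fintype.linearCombination A fun a => mgerm E (Opens.mem_top x) (s a)
    have hψ : ∀ c, ψ c = φ (N.transpose.mulVecLin c) := fun c => by
      simp only [ψ, φ, Fintype.linearCombination_apply, hsx, Finset.smul_sum, smul_smul]
      rw [Finset.sum_comm]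
      refine Finset.sum_congr rfl fun b _ => ?_
      rw [← Finset.sum_smul]
      simp only [Matrix.mulVecLin_apply, Matrix.mulVec, dotProduct, Matrix.transpose_apply, mul_comm]
    have hR : Module.length A (Q.presheaf.stalk x) = Ring.ord A N.det := by
      rw [length_stalk_coker (fromFree s) x (LinearMap.range ψ) fun v => ?_, ← Matrix.det_transpose,
        ← CycNorm.length_coker_eq_ord_det (P := N.transpose) (by rwa [Matrix.det_transpose])]
      · refine (Submodule.Quotient.equiv _ _ e ?_).length_eq.symm
        rw [show ψ = φ.comp N.transpose.mulVecLin from LinearMap.ext hψ, LinearMap.range_comp]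
        rfl
      constructor
      · rintro ⟨c, rfl⟩
        exact ⟨_, (fromFree_stalk s c).trans (Fintype.linearCombination_apply _ _ _).symm⟩
      · rintro ⟨w, rfl⟩
        obtain ⟨c, rfl⟩ := (PBundle.isFrame_bv X n x (Opens.mem_top x)).2 w
        exact ⟨c, (Fintype.linearCombination_apply _ _ _).trans (fromFree_stalk s c).symm⟩
    have hb := RefDiv.bijective_germ_of_isGen (C i).gen hi
    let e' : A ≃ₗ[A] L.presheaf.stalk x :=
      LinearEquiv.ofBijective (LinearMap.toSpanSingleton A _ (mgerm L hi (C i).l)) hb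
    have hone : ∀ w : (Coh.structureModule X).presheaf.stalk x,
        ∃ a : A, w = a • mgerm (Coh.structureModule X) (Opens.mem_top x) (1 : Γ(X, ⊤)) := fun w => by
      obtain ⟨W, hxW, t, rfl⟩ := (Coh.structureModule X).presheaf.exists_germ_eq (x := x) w
      refine ⟨(X.presheaf.germ W x hxW).hom t, ?_⟩
      rw [← mgerm_res (Coh.structureModule X) (le_top : W ≤ ⊤) hxW, ← mgerm_smul]
      refine congrArg (mgerm (Coh.structureModule X) hxW) ?_
      change (show Γ(X, W) from t) = (show Γ(X, W) from t) * (X.presheaf.map (homOfLE (le_top : W ≤ ⊤)).op).hom 1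
      rw [map_one, mul_one]
    have hσx : stalkHom (homOf σ) x (mgerm (Coh.structureModule X) (Opens.mem_top x) (1 : Γ(X, ⊤))) =
        e' N.det := by
      rw [stalkHom_germ]
      show mgerm L _ (TMul.val (homOf σ) ⊤) = N.det • mgerm L hi (C i).l
      rw [val_homOf, res_self, hdetN, ← mgerm_smul, ← show res L le_top σ = (M i).det • (C i).l from hσ i,
        mgerm_res]
    have hR' : Module.length A (Q'.presheaf.stalk x) = Ring.ord A N.det := by
      rw [length_stalk_coker (homOf σ) x (Submodule.map e'.toLinearMap (Ideal.span ({N.det} : Set A))) fun v => ?_]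
      · exact (Submodule.Quotient.equiv _ _ e' rfl).length_eq.symm
      constructor
      · rintro ⟨a, ha, rfl⟩
        obtain ⟨b, rfl⟩ := Ideal.mem_span_singleton'.1 ha
        refine ⟨b • mgerm _ (Opens.mem_top x) (1 : Γ(X, ⊤)), ?_⟩
        rw [stalkHom_smul, hσx, ← map_smul]
        rfl
      · rintro ⟨w, rfl⟩
        obtain ⟨a, rfl⟩ := hone w
        refine ⟨a * N.det, Ideal.mem_span_singleton'.2 ⟨a, rfl⟩, ?_⟩
        rw [stalkHom_smul, hσx, ← map_smul]
        rfl
    exact hR.trans hR'.symm
  have hgF : grk (FlatMod.freeMod X n) = n := W7Slope.grk_of_rank (W7Slope.rank_of_frames fun x =>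
    ⟨⊤, PBundle.bv X, Opens.mem_top x, PBundle.isFrame_bv X n⟩)
  have hgO : grk (Coh.structureModule X) = 1 :=
    W7Slope.grk_of_rank (CurveRR.isFinLocFreeOfRank_one TMul.isInvertible_structureModule)
  have hgE := W7Slope.grk_of_rank hE
  have hgL := W7Slope.grk_of_rank (CurveRR.isFinLocFreeOfRank_one hL)
  have hg1 := W7Slope.grk_add hSE hEc
  have hg2 := W7Slope.grk_add hSL hLc
  change grk E = grk (FlatMod.freeMod X n) + grk Q at hg1
  change grk L = grk (Coh.structureModule X) + grk Q' at hg2
  have hQ0 : grk Q = 0 := by omega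
  have hQ'0 : grk Q' = 0 := by omega
  have hχ := euler_eq_of_lenAt (k := k) hdim hQ hQ' hQ0 hQ'0 fun x => by rw [lenAt, lenAt, hlen x]
  have hd1 := W7Slope.cdeg_add (k := k) hSE hF hEc hQ
  have hd2 := W7Slope.cdeg_add (k := k) hSL RefStalk.isCoh_structureModule hLc hQ'
  change cdeg k E = cdeg k (FlatMod.freeMod X n) + cdeg k Q at hd1
  change cdeg k L = cdeg k (Coh.structureModule X) + cdeg k Q' at hd2
  rw [W7Slope.deg_eq hE, W7Slope.deg_eq (CurveRR.isFinLocFreeOfRank_one hL), hd1, hd2,
    cdeg_free cdeg_structure, cdeg_structure]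
  have hq : cdeg k Q = cdeg k Q' := by rw [cdeg, cdeg, hQ0, hQ'0, hχ]
  rw [show cdeg k Q = cdeg k Q' from hq]

end Groth.Agent.DetDeg
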