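import Groth.Agent.DetDeg.Core
import Groth.Agent.CurveRR.GGVanish
import Groth.Agent.CurveRR.Multi2
import Groth.Agent.TMul.GlobGen
import Groth.Agent.S1551

/-!
The degree of a finite locally free module is the degree of its determinant.
-/

set_option autoImplicit false
set_option backward.isDefEq.respectTransparency false
set_option linter.style.haveILetI false
set_option linter.unusedSectionVars false

universe u

open CategoryTheory CategoryTheory.Limits AlgebraicGeometry TopologicalSpace Opposite
open Groth.Agent.WeakAssLib (mgerm stalkHom stalkHom_germ)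
open TMul (homOf)

noncomputable section

namespace Groth.Agent.DetDeg

attribute [local instance] Abelian.hasFiniteBiproducts

variable {k : Type u} [Field k] {X : Scheme.{u}} [X.Over (Spec (CommRingCat.of k))]
  [IsProper (X ↘ Spec (CommRingCat.of k))] {n : ℕ} {E L : X.Modules}

include k in
/-- Globally generated modules have generically independent global sections. -/
theorem exists_generic_sections [IsIntegral X] (hE : FlatMod.IsFinLocFreeOfRank n E)
    (hgg : Curv2.IsGloballyGenerated E) :
    ∃ s : Fin n → Γ(E, ⊤), Function.Injective fun c : Fin n → X.presheaf.stalk (genericPoint X) =>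
      ∑ i, c i • mgerm E (Opens.mem_top (genericPoint X)) (s i) := by
  classical
  haveI := CurveRR.isNoetherian_of_proper k X
  let η := genericPoint X
  letI : Field (X.presheaf.stalk η) := inferInstanceAs (Field X.functionField)
  obtain ⟨l, t, ht⟩ := CurveRR.exists_finite_sections (CurveRR.isCoh_of_rank hE) hgg
  have hep : Epi (fromFree t) := by
    have e : biproduct.desc (f := fun _ : Fin l => Coh.structureModule X) (fun i => homOf (t i)) =
        (biproduct.isoCoproduct fun _ : Fin l => Coh.structureModule X).hom ≫ fromFree t := by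
      refine biproduct.hom_ext' _ _ fun i => ?_
      simp [fromFree, FlatMod.freeMod]
    exact epi_of_epi_fac e.symm
  have hsurj : Function.Surjective (stalkHom (fromFree t) η) := (ModuleCat.epi_iff_surjective _).1
    (inferInstance : Epi ((DerSch.stalkFunctor X η).map (fromFree t)))
  let tη : Fin l → E.presheaf.stalk η := fun i => mgerm E (Opens.mem_top η) (t i)
  have hspan : Submodule.span (X.presheaf.stalk η) (Set.range tη) = ⊤ := by
    refine eq_top_iff.mpr fun v _ => ?_
    obtain ⟨w, rfl⟩ := hsurj v
    obtain ⟨c, rfl⟩ := (PBundle.isFrame_bv X l η (Opens.mem_top η)).2 w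
    rw [fromFree_stalk]
    exact Submodule.sum_mem _ fun i _ => Submodule.smul_mem _ _ (Submodule.subset_span ⟨i, rfl⟩)
  obtain ⟨b, hb, hbspan, hbli⟩ := exists_linearIndependent (X.presheaf.stalk η) (Set.range tη)
  let B := Module.Basis.mk hbli (by rw [Subtype.range_coe, hbspan, hspan])
  haveI : Fintype b := ((Set.finite_range tη).subset hb).fintype
  have hcard : Fintype.card b = n := by
    rw [← Module.finrank_eq_card_basis B]
    exact W7Slope.grk_of_rank hE
  let e := (Fintype.equivFinOfCardEq hcard).symm
  choose idx hidx using fun i : Fin n => hb (e i).2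
  refine ⟨fun i => t (idx i), fun c c' h => ?_⟩
  have hli : LinearIndependent (X.presheaf.stalk η) fun i : Fin n => ((e i : b) : E.presheaf.stalk η) :=
    hbli.comp e e.injective
  refine Fintype.linearIndependent_iff'ₛ.1 hli |> fun hh => ?_
  apply hh
  simp only [LinearMap.lsum_apply, LinearMap.sum_apply, LinearMap.comp_apply, LinearMap.proj_apply,
    LinearMap.coe_smulRight, LinearMap.id_apply, ← hidx]
  exact h

/-- On an integral proper curve the degree is the degree of the determinant. -/
theorem deg_eq_of_hasDet_integral [IsIntegral X] (hdim : topologicalKrullDim X = 1)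
    (hE : FlatMod.IsFinLocFreeOfRank n E) (hd : HasDet n E L) :
    Curv2.deg k X E n = Curv2.deg k X L 1 := by
  haveI := CurveRR.isNoetherian_of_proper k X
  haveI : X.IsSeparated := (Scheme.isSeparated_iff X).mpr (by
    rw [show terminal.from X = (X ↘ Spec (CommRingCat.of k)) ≫ terminal.from _ from terminal.hom_ext _ _]
    infer_instance)
  obtain ⟨A, hA⟩ := Groth.Agent.S1551.result X hdim
  haveI : E.IsQuasicoherent := (CurveRR.isCoh_of_rank hE).1
  obtain ⟨m, hm⟩ := TMul.eventually_isGloballyGenerated hA (CurveRR.isCoh_of_rank hE).2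
  let B := CohB1.tensorPow A m
  have hB : PicF.IsInvertible B := TMul.isInvertible_tensorPow hA.1 m
  have hL := isInvertible_of_hasDet hd
  have hE' := W7Slope.rank_tensor_inv hE hB
  obtain ⟨s, hs⟩ := exists_generic_sections (k := k) hE' (hm m le_rfl)
  have h := deg_eq_of_sections (k := k) s hs hdim.le hE' (hd.twist hB)
  have h1 := CurveRR.Multi.deg_tensor k hdim.le n 1 E B hE (CurveRR.isFinLocFreeOfRank_one hB)
  rw [mul_one] at h1
  have h2 := CurveRR.deg_tensor_inv (k := k) hdim.le hL (TMul.isInvertible_tensorPow hB n)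
  have h3 := CurveRR.deg_tensorPow (k := k) hdim.le hB n
  change Curv2.deg k X (CohB1.tensorMod E B) n = Curv2.deg k X (CohB1.tensorMod L (CohB1.tensorPow B n)) 1 at h
  rw [h1, h2, h3] at h
  push_cast at h
  linarith

/-- The degree is the degree of the determinant. -/
theorem deg_eq_of_hasDet (hdim : topologicalKrullDim X ≤ 1) (hE : FlatMod.IsFinLocFreeOfRank n E)
    (hL : FlatMod.IsFinLocFreeOfRank 1 L) (hd : HasDet n E L) :
    Curv2.deg k X E n = Curv2.deg k X L 1 := by
  haveI := CurveRR.isNoetherian_of_proper k X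
  rw [CurveRR.Multi.deg_eq_finsum k hdim n E hE, CurveRR.Multi.deg_eq_finsum k hdim 1 L hL]
  refine finsum_congr fun Z => ?_
  split_ifs with hZ
  · refine congrArg _ ?_
    rw [CurveRR.Multi.radical_component]
    let ξ := Z.2.1.genericPoint
    let i := Devissage.Zi ξ
    letI : ((Scheme.IdealSheafData.vanishingIdeal (Devissage.Zc ξ)).subscheme).Over (Spec (CommRingCat.of k)) :=
      ⟨i ≫ (X ↘ Spec (CommRingCat.of k))⟩
    haveI : IsProper ((Scheme.IdealSheafData.vanishingIdeal (Devissage.Zc ξ)).subscheme ↘ Spec (CommRingCat.of k)) :=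
      inferInstanceAs (IsProper (i ≫ (X ↘ Spec (CommRingCat.of k))))
    haveI := Devissage.Zi_isIntegral ξ
    refine deg_eq_of_hasDet_integral (k := k) ?_ (CurveRR.Multi.isFinLocFreeOfRank_pullback i hE) (hd.pullback i)
    have hr : Set.range i = Z.1 := by
      rw [Devissage.range_Zi]
      exact (Z.2.1.isGenericPoint_genericPoint (isClosed_of_mem_irreducibleComponents _ Z.2)).def
    have h := IsHomeomorph.topologicalKrullDim_eq _ i.isClosedEmbedding.isEmbedding.toHomeomorph.isHomeomorph
    rw [hr] at h
    exact h.trans hZ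
  · rfl

theorem isFinLocFreeOfRank_of_hasDet (hd : HasDet n E L) : FlatMod.IsFinLocFreeOfRank 1 L := by
  obtain ⟨ι, C, hcov, -⟩ := hd
  have hl : FlatMod.IsFinLocFree L := ResDesc.isFinLocFree_of_frames fun x => by
    obtain ⟨i, hi⟩ := hcov x
    refine ⟨(C i).U, 1, fun _ => (C i).l, hi, W7Strat.isFrame_of_bijective fun V hV => ?_⟩
    have h1 : (fun c : Fin 1 → Γ(X, V) => ∑ j, c j • QC.res L hV (C i).l) =
        (fun a : Γ(X, V) => a • QC.res L hV (C i).l) ∘ fun c : Fin 1 → Γ(X, V) => c 0 := by
      funext c
      simp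
    rw [h1]
    exact ((C i).gen V hV).comp ⟨fun a b hab => funext fun j => by rw [Subsingleton.elim j 0]; exact hab,
      fun a => ⟨fun _ => a, rfl⟩⟩
  intro x
  obtain ⟨i, hi⟩ := hcov x
  obtain ⟨W, m, hxW, ⟨w⟩⟩ := hl x
  obtain ⟨b⟩ := LocFree.exists_basis_stalk w (LocFree.isQCoh_of_isFinLocFree hl) hxW
  let e' : X.presheaf.stalk x ≃ₗ[X.presheaf.stalk x] L.presheaf.stalk x :=
    LinearEquiv.ofBijective (LinearMap.toSpanSingleton _ _ (mgerm L hi (C i).l))
      (RefDiv.bijective_germ_of_isGen (C i).gen hi)
  have hm : m = 1 := by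
    have h := Module.finrank_eq_card_basis b
    rw [← e'.finrank_eq, Module.finrank_self, Fintype.card_ulift, Fintype.card_fin] at h
    exact h.symm
  subst hm
  exact ⟨W, hxW, ⟨w⟩⟩

end Groth.Agent.DetDeg
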