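import Groth.Agent.DetDeg.Main

/-!
Globally generated modules with trivial determinant are trivial.
-/

set_option autoImplicit false
set_option backward.isDefEq.respectTransparency false
set_option linter.style.haveILetI false
set_option linter.unusedSectionVars false

universe u

open CategoryTheory CategoryTheory.Limits AlgebraicGeometry TopologicalSpace Opposite
open Groth.Agent.QC (res resO res_res res_self res_smul app_res)
open Groth.Agent.WeakAssLib (mgerm mgerm_smul mgerm_res)
open TMul (homOf)

noncomputable section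

namespace Groth.Agent.DetDeg

variable {k : Type u} [Field k] {X : Scheme.{u}} [X.Over (Spec (CommRingCat.of k))]
  [IsProper (X ↘ Spec (CommRingCat.of k))] [IsIntegral X] {n : ℕ} {E L : X.Modules}

include k in
/-- A globally generated module with trivial determinant on a proper integral scheme is free. -/
theorem nonempty_iso_free (hE : FlatMod.IsFinLocFreeOfRank n E) (hgg : Curv2.IsGloballyGenerated E)
    (hd : HasDet n E L) (e : L ≅ Coh.structureModule X) : Nonempty (E ≅ FlatMod.freeMod X n) := by
  haveI := CurveRR.isNoetherian_of_proper k X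
  obtain ⟨ι, C, hcov, hcomp⟩ := hd
  obtain ⟨s, hs⟩ := exists_generic_sections (k := k) hE hgg
  choose P hP using fun (i : ι) (a : Fin n) => (C i).frame.comb_surjective le_rfl (res E le_top (s a))
  let M : ∀ i, Matrix (Fin n) (Fin n) Γ(X, (C i).U) := fun i => Matrix.of (P i)
  have hM : ∀ i a, res E le_top (s a) = ∑ b, M i a b • res E le_rfl ((C i).e b) := fun i a => (hP i a).symm
  obtain ⟨σ, hσ⟩ := exists_det_section s C hcov hcomp M hM
  obtain ⟨i₀, hi₀⟩ := hcov (genericPoint X)
  let c : Γ(X, ⊤) := e.hom.app ⊤ σ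
  have hc : c ≠ 0 := fun h0 => by
    have hσ0 : σ = 0 := (ConcreteCategory.bijective_of_isIso (e.hom.app ⊤)).1 (h0.trans (map_zero _).symm)
    have h1 := hσ i₀
    rw [hσ0, map_zero] at h1
    refine det_ne_zero s hs (C i₀) hi₀ (M i₀) (hM i₀)
      ((((C i₀).gen (C i₀).U le_rfl).1 (a₁ := (M i₀).det) (a₂ := 0) ?_))
    show (M i₀).det • res L le_rfl (C i₀).l = (0 : Γ(X, (C i₀).U)) • res L le_rfl (C i₀).l
    rw [res_self, zero_smul]
    exact h1.symm
  have hu : IsUnit c := by
    obtain ⟨d, hd⟩ := (isField_of_universallyClosed k (X ↘ Spec (CommRingCat.of k))).mul_inv_cancel hc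
    exact IsUnit.of_mul_eq_one d hd
  have hdet : ∀ i, IsUnit (M i).det := fun i => by
    have h1 := congrArg (e.hom.app (C i).U) (hσ i)
    rw [← app_res, Scheme.Modules.Hom.app_smul] at h1
    have h2 : resO X (le_top : (C i).U ≤ ⊤) c = (M i).det * (show Γ(X, (C i).U) from e.hom.app (C i).U (C i).l) := h1
    exact isUnit_of_mul_isUnit_left (h2 ▸ hu.map (resO X (le_top : (C i).U ≤ ⊤)))
  have hframe : TMul.IsFrame s := fun x _ => by
    obtain ⟨i, hi⟩ := hcov x
    have h := (W7Strat.bijective_germs_iff (b := fun a => res E (le_top : (C i).U ≤ ⊤) (s a)) (C i).frame hi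
      (Matrix.of fun a b => (X.presheaf.germ (C i).U x hi).hom (M i a b)) fun a => by
        have h1 := congrArg (mgerm E hi) (hM i a)
        rw [TMul.germ_comb le_rfl hi] at h1
        exact h1).2 (by rw [← germ_det hi (M i)]; exact (hdet i).map _)
    simpa only [mgerm_res] using h
  haveI : IsIso (fromFree s) := by
    refine ZCl.isIso_of_bijective _ fun V => ?_
    have h1 : ∀ v : Fin n → Γ(X, V), (fromFree s).app V (∑ j, v j • res _ le_top (PBundle.bv X j)) =
        ∑ j, v j • res E le_top (s j) := fun v => by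
      simp only [map_sum, Scheme.Modules.Hom.app_smul, ← app_res, fromFree_bv]
    constructor
    · intro a b hab
      obtain ⟨u, rfl⟩ := (PBundle.isFrame_bv X n).comb_surjective (le_top : V ≤ ⊤) a
      obtain ⟨v, rfl⟩ := (PBundle.isFrame_bv X n).comb_surjective (le_top : V ≤ ⊤) b
      rw [h1, h1] at hab
      rw [hframe.comb_injective le_top hab]
    · intro t
      obtain ⟨v, hv⟩ := hframe.comb_surjective (le_top : V ≤ ⊤) t
      exact ⟨_, (h1 v).trans hv⟩
  exact ⟨(asIso (fromFree s)).symm⟩

end Groth.Agent.DetDeg
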